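import Groth.Agent.Lib.SuppDim6.Alg
import Groth.Agent.Lib.QuasiFlat.Basic
import Groth.Agent.Lib.QCoh.Support
import Groth.Agent.Lib.Altitude.Fibre
import Groth.Prelude.Def_FlatMod2
import Groth.Prelude.Def_CohB1
import Mathlib.RingTheory.AlgebraicIndependent.AlgebraicClosure

/-!
# Dimension of the support of a flat module in fibres
-/

set_option autoImplicit false
set_option linter.style.haveILetI false
set_option backward.isDefEq.respectTransparency false

universe u

open CategoryTheory AlgebraicGeometry TopologicalSpace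

namespace GrothLib.SuppDim6

/-- The point of `Spec 𝒪_x` over a generalisation. -/
theorem ker_toResidue_eq {X : Scheme.{u}} (x : X) (q : Spec (X.presheaf.stalk x)) {y : X} (hy : X.fromSpecStalk x q = y)
    (h : y ⤳ x) : RingHom.ker (X.presheaf.stalkSpecializes h ≫ X.residue y).hom = q.asIdeal := by
  let z : Spec (X.presheaf.stalk x) := Spec.map (X.presheaf.stalkSpecializes h ≫ X.residue y) (IsLocalRing.closedPoint _)
  have h1 : X.fromSpecStalk x z = y := by
    show (Spec.map (X.presheaf.stalkSpecializes h ≫ X.residue y) ≫ X.fromSpecStalk x) _ = y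
    rw [Spec.map_comp, Category.assoc, Scheme.SpecMap_stalkSpecializes_fromSpecStalk]
    exact X.fromSpecResidueField_apply y _
  have h2 : z = q := (X.fromSpecStalk x).isEmbedding.injective (h1.trans hy.symm)
  rw [← h2]
  show _ = Ideal.comap _ (IsLocalRing.maximalIdeal _)
  rw [IsLocalRing.maximalIdeal_eq_bot, ← RingHom.ker_eq_comap_bot]

/-- A point of `Spec 𝒪_x` containing the annihilator of an element of the stalk is in the support. -/
theorem fromSpecStalk_mem_support {X : Scheme.{u}} (F : X.Modules) [F.IsQuasicoherent] (x : X)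
    (m₀ : F.presheaf.stalk x) (q : Spec (X.presheaf.stalk x))
    (hq : ∀ c : X.presheaf.stalk x, c • m₀ = 0 → c ∈ q.asIdeal) : X.fromSpecStalk x q ∈ CohB1.support F := by
  obtain ⟨_, ⟨W, hW, rfl⟩, hxW, -⟩ :=
    X.isBasis_affineOpens.exists_subset_of_mem_open (Set.mem_univ x) isOpen_univ
  have hW : IsAffineOpen W := hW
  let q' : Spec Γ(X, W) := Spec.map (X.presheaf.germ W x hxW) q
  have hq' : hW.fromSpec q' = X.fromSpecStalk x q := by
    rw [← hW.fromSpecStalk_eq_fromSpecStalk hxW]; rfl
  rw [← hq']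
  have hmem : hW.fromSpec q' ∈ W := hW.range_fromSpec.le ⟨q', rfl⟩
  rw [GrothLib.QCoh.mem_support_iff_primeAt F hW hmem]
  have hp : (⟨GrothLib.WeakAss.primeAt _ hmem, inferInstance⟩ : PrimeSpectrum Γ(X, W)) = q' :=
    (GrothLib.QCoh.primeAt_eq_primeIdealOf hW hmem).trans
      (hW.fromSpec.isOpenEmbedding.injective (hW.fromSpec_primeIdealOf ⟨_, hmem⟩))
  rw [hp, Module.mem_support_iff']
  obtain ⟨c, z, hc, hz⟩ := GrothLib.WeakAss.exists_smul_eq_germ hW hxW m₀
  have hu : IsUnit (X.presheaf.germ W x hxW c) :=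
    (Scheme.mem_basicOpen _ c x hxW).mp (GrothLib.WeakAss.notMem_primeAt_iff.mp hc)
  refine ⟨z, fun r hr hrz => hr ?_⟩
  show X.presheaf.germ W x hxW r ∈ q.asIdeal
  refine hq _ (hu.smul_eq_zero.1 ?_)
  rw [smul_comm, hz, ← GrothLib.WeakAss.germ_smul, hrz, map_zero]

variable {X S : Scheme.{u}} (f : X ⟶ S) [LocallyOfFiniteType f]

/-- Over the generic point there is a point of the support of at least the same dimension. -/
theorem exists_generic_point_of_flat [IrreducibleSpace ↑S] (F : X.Modules) (hF : Coh.IsCoh F)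
    (hfl : FlatMod.IsFlatOver f F) (x : X) (hx : x ∈ CohB1.support F) :
    ∃ y : X, f y = genericPoint ↑S ∧ y ∈ CohB1.support F ∧
      (letI := (f.residueFieldMap x).hom.toAlgebra
       Algebra.trdeg (S.residueField (f x)) (X.residueField x)) ≤
      (letI := (f.residueFieldMap y).hom.toAlgebra
       Algebra.trdeg (S.residueField (f y)) (X.residueField y)) := by
  classical
  haveI : F.IsQuasicoherent := hF.1
  let A := S.presheaf.stalk (f x)
  let O := X.presheaf.stalk x
  let M := F.presheaf.stalk x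
  letI : Algebra A O := (f.stalkMap x).hom.toAlgebra
  haveI : IsLocalHom (algebraMap A O) := inferInstanceAs (IsLocalHom (f.stalkMap x).hom)
  letI : Module A M := FlatMod.moduleStalkOver f F x
  haveI : IsScalarTower A O M := IsScalarTower.of_algebraMap_smul fun _ _ => rfl
  haveI : Module.Flat A M := hfl x
  haveI : Module.Finite O M := GrothLib.QuasiFlat.finite_stalk F hF x
  haveI : Nontrivial M := not_subsingleton_iff_nontrivial.1 hx
  obtain ⟨m₀, hm₀⟩ : ∃ m₀ : M, m₀ ∉ IsLocalRing.maximalIdeal O • (⊤ : Submodule O M) := by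
    by_contra! h
    exact top_ne_bot (α := Submodule O M) (Submodule.eq_bot_of_le_smul_of_le_jacobson_bot
      (IsLocalRing.maximalIdeal O) ⊤ Module.Finite.fg_top (fun m _ => h m) (IsLocalRing.maximalIdeal_le_jacobson _))
  haveI : FaithfulSMul (IsLocalRing.ResidueField A) (IsLocalRing.ResidueField O) :=
    (faithfulSMul_iff_algebraMap_injective _ _).2 (RingHom.injective _)
  obtain ⟨ι, t, ht⟩ := exists_isTranscendenceBasis' (IsLocalRing.ResidueField A) (IsLocalRing.ResidueField O)
  choose τ hτ using IsLocalRing.residue_surjective (R := O)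
  let ηpt := genericPoint ↑S
  have hspec : ηpt ⤳ f x := genericPoint_specializes (f x)
  let ρA : A →+* S.residueField ηpt := (S.presheaf.stalkSpecializes hspec ≫ S.residue ηpt).hom
  haveI : (RingHom.ker ρA).IsPrime := RingHom.ker_isPrime ρA
  obtain ⟨q, hq, hann, hind⟩ := exists_prime_of_flat (A := A) (O := O) (M := M) (fun i => τ (t i))
    (by rw [show (fun i => IsLocalRing.residue O (τ (t i))) = t from funext fun i => hτ (t i)]; exact ht.1)
    m₀ hm₀ (RingHom.ker ρA)
  let y : X := X.fromSpecStalk x ⟨q, hq⟩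
  have hyx : y ⤳ x := X.range_fromSpecStalk.le ⟨_, rfl⟩
  let ρ : O →+* X.residueField y := (X.presheaf.stalkSpecializes hyx ≫ X.residue y).hom
  have hρ : RingHom.ker ρ = q := ker_toResidue_eq x ⟨q, hq⟩ rfl hyx
  have hsq : ∀ (z : S) (hz : f y = z) (hzx : z ⤳ f x),
      RingHom.ker (ρ.comp (f.stalkMap x).hom) = RingHom.ker ((S.presheaf.stalkSpecializes hzx ≫ S.residue z).hom) := by
    rintro z rfl hzx
    have hcomm : f.stalkMap x ≫ X.presheaf.stalkSpecializes hyx ≫ X.residue y =
        (S.presheaf.stalkSpecializes hzx ≫ S.residue (f y)) ≫ f.residueFieldMap y := by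
      rw [← Scheme.Hom.stalkSpecializes_stalkMap_assoc, Category.assoc, Scheme.residue_residueFieldMap]
    have hcomm' : ρ.comp (f.stalkMap x).hom =
        (f.residueFieldMap y).hom.comp (S.presheaf.stalkSpecializes hzx ≫ S.residue (f y)).hom :=
      congrArg CommRingCat.Hom.hom hcomm
    rw [hcomm', RingHom.ker_comp_of_injective _ (RingHom.injective _)]
  have hfy : f y = ηpt := by
    have hzx : f y ⤳ f x := hyx.map f.continuous
    let P := RingHom.ker ((S.presheaf.stalkSpecializes hzx ≫ S.residue (f y)).hom)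
    haveI : P.IsPrime := RingHom.ker_isPrime _
    have hsη : S.fromSpecStalk (f x) ⟨RingHom.ker ρA, inferInstance⟩ = ηpt := by
      obtain ⟨w, hw⟩ := S.range_fromSpecStalk.ge hspec
      rw [show (⟨RingHom.ker ρA, inferInstance⟩ : Spec (S.presheaf.stalk (f x))) = w from
        PrimeSpectrum.ext (ker_toResidue_eq (f x) w hw hspec), hw]
    have hsy : S.fromSpecStalk (f x) ⟨P, inferInstance⟩ = f y := by
      obtain ⟨w, hw⟩ := S.range_fromSpecStalk.ge hzx
      rw [show (⟨P, inferInstance⟩ : Spec (S.presheaf.stalk (f x))) = w from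
        PrimeSpectrum.ext (ker_toResidue_eq (f x) w hw hzx), hw]
    have hPη : P ≤ RingHom.ker ρA := fun a ha => by
      have h0 : MvPolynomial.aeval (R := A) (fun i => τ (t i)) (MvPolynomial.C a) ∈ q := by
        rw [MvPolynomial.aeval_C, ← hρ]
        show a ∈ RingHom.ker (ρ.comp (f.stalkMap x).hom)
        rw [hsq _ rfl hzx]; exact ha
      have := hind _ h0 0
      rwa [MvPolynomial.coeff_zero_C] at this
    have h3 : f y ⤳ ηpt := by
      rw [← hsη, ← hsy]
      exact ((PrimeSpectrum.le_iff_specializes (⟨P, inferInstance⟩ : PrimeSpectrum _)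
        ⟨RingHom.ker ρA, inferInstance⟩).1 hPη).map (S.fromSpecStalk (f x)).continuous
    exact (h3.antisymm (genericPoint_specializes (f y))).eq
  refine ⟨y, hfy, fromSpecStalk_mem_support F x m₀ ⟨q, hq⟩ hann, ?_⟩
  letI := (f.residueFieldMap x).hom.toAlgebra
  letI := (f.residueFieldMap y).hom.toAlgebra
  haveI : FaithfulSMul (S.residueField (f y)) (X.residueField y) :=
    (faithfulSMul_iff_algebraMap_injective _ _).2 (RingHom.injective _)
  have hzx : f y ⤳ f x := hyx.map f.continuous
  let σ : A →+* S.residueField (f y) := (S.presheaf.stalkSpecializes hzx ≫ S.residue (f y)).hom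
  let Ā := A ⧸ RingHom.ker σ
  letI : Algebra Ā (S.residueField (f y)) := (RingHom.kerLift σ).toAlgebra
  letI : Algebra Ā (X.residueField y) := ((f.residueFieldMap y).hom.comp (RingHom.kerLift σ)).toAlgebra
  haveI : IsScalarTower Ā (S.residueField (f y)) (X.residueField y) := IsScalarTower.of_algebraMap_eq fun _ => rfl
  haveI : (RingHom.ker σ).IsPrime := RingHom.ker_isPrime σ
  haveI : Algebra.IsAlgebraic Ā (S.residueField (f y)) := ⟨fun z => by
    obtain ⟨s, rfl⟩ := S.residue_surjective (f y) z
    obtain ⟨w, hw⟩ := S.range_fromSpecStalk.ge hzx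
    obtain ⟨_, ⟨V, hV, rfl⟩, hxV, -⟩ :=
      S.isBasis_affineOpens.exists_subset_of_mem_open (Set.mem_univ (f x)) isOpen_univ
    have hV : IsAffineOpen V := hV
    have hyV : f y ∈ V := hzx.mem_open V.2 hxV
    haveI := hV.isLocalization_stalk ⟨f y, hyV⟩
    letI := S.presheaf.algebra_section_stalk (⟨f y, hyV⟩ : V)
    obtain ⟨⟨a, d⟩, hd⟩ := IsLocalization.surj (hV.primeIdealOf ⟨f y, hyV⟩).asIdeal.primeCompl s
    have hgerm : ∀ r : Γ(S, V), S.residue (f y) (S.presheaf.germ V (f y) hyV r) =
        σ (S.presheaf.germ V (f x) hxV r) := fun r => by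
      show _ = (S.presheaf.stalkSpecializes hzx ≫ S.residue (f y)).hom _
      rw [← TopCat.Presheaf.germ_stalkSpecializes (F := S.presheaf) hxV hzx]
      rfl
    have hd' : S.residue (f y) s * σ (S.presheaf.germ V (f x) hxV d.1) = σ (S.presheaf.germ V (f x) hxV a) := by
      rw [← hgerm, ← hgerm, ← map_mul]
      exact congrArg _ hd
    have hne : σ (S.presheaf.germ V (f x) hxV d.1) ≠ 0 := by
      rw [← hgerm]
      intro h0
      exact ((IsLocalRing.residue_eq_zero_iff _).1 h0)
        (IsLocalization.map_units (M := (hV.primeIdealOf ⟨f y, hyV⟩).asIdeal.primeCompl) (S.presheaf.stalk (f y)) d)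
    exact IsAlgebraic.of_mul (mem_nonZeroDivisors_of_ne_zero hne)
      (isAlgebraic_algebraMap (R := Ā) (Ideal.Quotient.mk _ (S.presheaf.germ V (f x) hxV d.1)))
      (by rw [mul_comm, hd']; exact isAlgebraic_algebraMap (R := Ā) (Ideal.Quotient.mk _ (S.presheaf.germ V (f x) hxV a)))⟩
  have hb : AlgebraicIndependent Ā fun i => ρ (τ (t i)) := by
    rw [algebraicIndependent_iff]
    intro p hp
    obtain ⟨p, rfl⟩ := MvPolynomial.map_surjective (Ideal.Quotient.mk (RingHom.ker σ)) Ideal.Quotient.mk_surjective p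
    have h1 : MvPolynomial.aeval (R := A) (fun i => τ (t i)) p ∈ q := by
      rw [← hρ, RingHom.mem_ker]
      refine Eq.trans ?_ hp
      rw [MvPolynomial.aeval_def, MvPolynomial.aeval_def, MvPolynomial.eval₂_comp_left, MvPolynomial.eval₂_map]
      congr 1
      have hcomm : f.stalkMap x ≫ X.presheaf.stalkSpecializes hyx ≫ X.residue y =
          (S.presheaf.stalkSpecializes hzx ≫ S.residue (f y)) ≫ f.residueFieldMap y := by
        rw [← Scheme.Hom.stalkSpecializes_stalkMap_assoc, Category.assoc, Scheme.residue_residueFieldMap]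
      exact congrArg CommRingCat.Hom.hom hcomm
    ext d
    rw [MvPolynomial.coeff_map, MvPolynomial.coeff_zero, Ideal.Quotient.eq_zero_iff_mem,
      show RingHom.ker σ = RingHom.ker ρA from by
        rw [← hsq _ rfl hzx, hsq _ hfy hspec]]
    exact hind p h1 d
  have hb' : AlgebraicIndependent (S.residueField (f y)) fun i => ρ (τ (t i)) := hb.extendScalars _
  calc Algebra.trdeg (IsLocalRing.ResidueField A) (IsLocalRing.ResidueField O) = Cardinal.mk ι := ht.cardinalMk_eq_trdeg.symm
    _ ≤ _ := hb'.cardinalMk_le_trdeg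

/-- The dimension of the support in any fibre is at most the one in the generic fibre. -/
theorem topologicalKrullDim_fibre_support_le [IrreducibleSpace ↑S] (F : X.Modules) (hF : Coh.IsCoh F)
    (hfl : FlatMod.IsFlatOver f F) (r : WithBot ℕ∞)
    (h : topologicalKrullDim ↑(f ⁻¹' {genericPoint ↑S} ∩ CohB1.support F) ≤ r) (s : S) :
    topologicalKrullDim ↑(f ⁻¹' {s} ∩ CohB1.support F) ≤ r := by
  haveI : F.IsQuasicoherent := hF.1
  have hclosed := GrothLib.QCoh.isClosed_support F hF.2
  -- compare with the fibre scheme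
  have hhom : ∀ s : S, topologicalKrullDim ↑(f ⁻¹' {s} ∩ CohB1.support F) =
      topologicalKrullDim ↑((f.fiberι s) ⁻¹' CohB1.support F) := fun s => by
    let e : ↑((f.fiberι s) ⁻¹' CohB1.support F) ≃ₜ ↑(f ⁻¹' {s} ∩ CohB1.support F) :=
      (((f.fiberι s).isEmbedding.comp Topology.IsEmbedding.subtypeVal).toHomeomorph).trans (Homeomorph.setCongr (by
        rw [Set.range_comp, Subtype.range_coe, Set.image_preimage_eq_inter_range, f.range_fiberι, Set.inter_comm]))
    exact (IsHomeomorph.topologicalKrullDim_eq _ e.isHomeomorph).symm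
  have hpt : ∀ x ∈ CohB1.support F, ∀ s : S, s = f x → ∀ z : f.fiber s, f.fiberι s z = x →
      topologicalKrullDim (closure ({z} : Set (f.fiber s))) ≤ r := by
    rintro x hx _ rfl z hzx
    obtain ⟨n, hn, hdim⟩ := GrothLib.Altitude.exists_trdeg_eq_dim_closure f x
    obtain rfl : z = f.asFiber x :=
      (f.fiberι _).isEmbedding.injective (hzx.trans (f.fiberι_asFiber x).symm)
    rw [hdim]
    obtain ⟨y, hy, hyS, hle⟩ := exists_generic_point_of_flat f F hF hfl x hx
    obtain ⟨n', hn', hdim'⟩ := GrothLib.Altitude.exists_trdeg_eq_dim_closure f y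
    have h' := h
    rw [← hy, hhom] at h'
    have hnn : n ≤ n' := by rw [hn, hn'] at hle; exact_mod_cast hle
    refine le_trans ((Nat.cast_le (α := WithBot ℕ∞)).2 hnn) (le_trans ?_ h')
    rw [← hdim']
    have hsub : closure ({f.asFiber y} : Set (f.fiber (f y))) ⊆ (f.fiberι (f y)) ⁻¹' CohB1.support F :=
      closure_minimal (Set.singleton_subset_iff.2 (by simpa using hyS)) (hclosed.preimage (f.fiberι _).continuous)
    exact (Topology.IsEmbedding.inclusion hsub).isInducing.topologicalKrullDim_le
  rw [hhom]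
  let T : Set (f.fiber s) := (f.fiberι s) ⁻¹' CohB1.support F
  have hT : IsClosed T := hclosed.preimage (f.fiberι s).continuous
  haveI : QuasiSober T := hT.isClosedEmbedding_subtypeVal.quasiSober
  rw [GrothLib.AffDom.topologicalKrullDim_eq_iSup]
  refine iSup_le fun ⟨z, hz⟩ => ?_
  refine le_trans (b := topologicalKrullDim (closure ({z} : Set (f.fiber _)))) ?_ ?_
  · let j : ↑(closure ({⟨z, hz⟩} : Set T)) → ↑(closure ({z} : Set (f.fiber _))) :=
      fun w => ⟨w.1.1, by
        have := w.2
        rw [closure_subtype, Set.image_singleton] at this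
        exact this⟩
    have hjc : Continuous j :=
      (continuous_subtype_val.comp continuous_subtype_val).subtype_mk _
    have hj : Topology.IsInducing j := Topology.IsInducing.of_comp hjc continuous_subtype_val
      ((Topology.IsInducing.subtypeVal.comp Topology.IsInducing.subtypeVal :
        Topology.IsInducing (fun w : ↑(closure ({⟨z, hz⟩} : Set T)) => (w.1.1 : f.fiber s))))
    exact hj.topologicalKrullDim_le
  refine hpt (f.fiberι s z) hz s ?_ z rfl
  exact ((f.range_fiberι s).le ⟨z, rfl⟩ : f (f.fiberι s z) = s).symm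

end GrothLib.SuppDim6
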