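import Mathlib.RingTheory.LocalRing.Module
import Mathlib.RingTheory.MvPolynomial.Basic
import Mathlib.RingTheory.AlgebraicIndependent.Basic
import Mathlib.RingTheory.TensorProduct.Basic
import Mathlib.RingTheory.Ideal.Maximal
import Mathlib.RingTheory.Ideal.Quotient.Operations
import Mathlib.RingTheory.MvPolynomial.Ideal

/-!
# Independent elements stay independent on the support over the generic point
-/

set_option autoImplicit false
set_option linter.style.haveILetI false
set_option backward.isDefEq.respectTransparency false

universe u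

open IsLocalRing MvPolynomial TensorProduct

namespace GrothLib.SuppDim6

theorem exists_prime_of_flat {A O M ι : Type u} [CommRing A] [CommRing O] [IsLocalRing A] [IsLocalRing O]
    [Algebra A O] [IsLocalHom (algebraMap A O)] [AddCommGroup M] [Module A M] [Module O M] [IsScalarTower A O M]
    [Module.Flat A M] (t : ι → O) (ht : AlgebraicIndependent (ResidueField A) fun i => residue O (t i))
    (m₀ : M) (hm₀ : m₀ ∉ maximalIdeal O • (⊤ : Submodule O M)) (η : Ideal A) [η.IsPrime] :
    ∃ q : Ideal O, q.IsPrime ∧ (∀ c : O, c • m₀ = 0 → c ∈ q) ∧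
      ∀ p : MvPolynomial ι A, aeval t p ∈ q → ∀ d, p.coeff d ∈ η := by
  classical
  have hli : LinearIndependent A fun d : ι →₀ ℕ => aeval (R := A) t (monomial d 1) • m₀ := by
    refine Module.IsLocalRing.linearIndependent_of_flat _ ?_
    let g : M →ₗ[A] ResidueField O ⊗[O] M :=
      (TensorProduct.mk O (ResidueField O) M 1).restrictScalars A
    refine LinearIndependent.of_comp (g.liftBaseChange (ResidueField A)) ?_
    let w : ResidueField O ⊗[O] M := 1 ⊗ₜ[O] m₀
    have hw : w ≠ 0 := fun h => hm₀ (by
      rw [← LinearMap.ker_tensorProductMk, LinearMap.mem_ker]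
      exact h)
    let sm : ResidueField O →ₗ[ResidueField A] ResidueField O ⊗[O] M :=
      ((LinearMap.id : ResidueField O →ₗ[ResidueField O] ResidueField O).smulRight w).restrictScalars (ResidueField A)
    have hsm : Function.Injective sm := fun a b h => smul_left_injective (ResidueField O) hw h
    have h1 : LinearIndependent (ResidueField A) fun d : ι →₀ ℕ =>
        sm (aeval (R := ResidueField A) (fun i => residue O (t i)) (monomial d 1)) :=
      ((MvPolynomial.basisMonomials ι (ResidueField A)).linearIndependent.map'
        (aeval fun i => residue O (t i)).toLinearMap (LinearMap.ker_eq_bot.2 ht)).map' sm (LinearMap.ker_eq_bot.2 hsm)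
    convert h1 using 1
    funext d
    have hres : aeval (R := ResidueField A) (fun i => residue O (t i)) (monomial d 1) =
        residue O (aeval (R := A) t (monomial d 1)) := by
      rw [aeval_monomial, aeval_monomial, map_mul, map_finsuppProd]
      simp
    rw [hres]
    show g.liftBaseChange (ResidueField A) (1 ⊗ₜ[A] (aeval (R := A) t (monomial d 1) • m₀)) =
      residue O (aeval (R := A) t (monomial d 1)) • w
    rw [LinearMap.liftBaseChange_tmul, one_smul]
    show (1 : ResidueField O) ⊗ₜ[O] (_ • m₀) = _ • (1 : ResidueField O) ⊗ₜ[O] m₀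
    rw [TensorProduct.tmul_smul, TensorProduct.smul_tmul', TensorProduct.smul_tmul', smul_eq_mul, mul_one,
      Algebra.smul_def, mul_one]
    rfl
  let Q : Ideal (MvPolynomial ι A) := RingHom.ker (MvPolynomial.map (σ := ι) (Ideal.Quotient.mk η))
  haveI : Q.IsPrime := RingHom.ker_isPrime _
  have hQ : ∀ p, p ∈ Q ↔ ∀ d, p.coeff d ∈ η := fun p => by
    simp only [Q, RingHom.mem_ker, MvPolynomial.ext_iff, coeff_map, coeff_zero, Ideal.Quotient.eq_zero_iff_mem]
  let W : Submonoid O := Q.primeCompl.map (aeval (R := A) t).toRingHom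
  let I : Ideal O := (Submodule.span O {m₀}).annihilator
  have hI : ∀ c, c ∈ I ↔ c • m₀ = 0 := fun c => Submodule.mem_annihilator_span_singleton _ _
  have hdisj : Disjoint (I : Set O) W := by
    rw [Set.disjoint_left]
    rintro _ hc ⟨p, hp, rfl⟩
    refine hp ((hQ p).2 fun d => ?_)
    have h0 : aeval (R := A) t p • m₀ = 0 := (hI _).1 hc
    rw [p.as_sum, map_sum, Finset.sum_smul] at h0
    by_cases hd : d ∈ p.support
    · have := linearIndependent_iff'.1 hli p.support (fun i => p.coeff i) ?_ d hd
      · rw [this]; exact zero_mem η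
      · rw [← h0]
        refine Finset.sum_congr rfl fun i _ => ?_
        rw [← smul_assoc, ← map_smul, smul_monomial, smul_eq_mul, mul_one]
    · rw [notMem_support_iff.1 hd]; exact zero_mem η
  obtain ⟨q, hq, hIq, hqW⟩ := Ideal.exists_le_prime_disjoint I W hdisj
  refine ⟨q, hq, fun c hc => hIq ((hI c).2 hc), fun p hp => (hQ p).1 (by_contra fun h => ?_)⟩
  exact Set.disjoint_left.1 hqW hp ⟨p, h, rfl⟩

end GrothLib.SuppDim6
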